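import Cfsg.Agent.BenderCore74.Key

/-!
The open core when the swapper inverts the Fitting subgroup of the pair stabiliser.
-/

set_option autoImplicit false
set_option linter.style.haveILetI false

open Subgroup MulAction

namespace Cfsg.Agent.BenderCore74

open Cfsg.Agent.TwoFusionB (fix_unique exists_fix exists_moveInv smul_swap orderOf_conj_eq
  smul_one_eq_iff sq_eq_one_of_inv inv_eq_of_inv ne_one_of_inv)
open Cfsg.Agent.Bender43 (op op_le op_isPGroup le_normalizer_op le_op)
open Cfsg.Agent.Bender43.Fixed (stab2)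

variable {G : Type*} [Group G]

/-- The Fitting subgroup of `D`, seen in the ambient group. -/
def fit (D : Subgroup G) : Subgroup G := (Cfsg.fittingSubgroup D).map D.subtype

theorem fit_le (D : Subgroup G) : fit D ≤ D := Subgroup.map_subtype_le _

theorem fit_eq_iSup [Finite G] (D : Subgroup G) :
    fit D = ⨆ p : {p : ℕ // p.Prime}, op p D := by
  rw [fit, Fitting.fitting_eq_iSup_pCore, Subgroup.map_iSup]
  rfl

theorem conj_fit [Finite G] {D : Subgroup G} {g x : G} (hg : g ∈ normalizer (D : Set G))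
    (hx : x ∈ fit D) : g * x * g⁻¹ ∈ fit D := by
  have h : (fit D).map (MulAut.conj g).toMonoidHom ≤ fit D := by
    rw [fit_eq_iSup, Subgroup.map_iSup]
    refine iSup_mono fun p => ?_
    rintro _ ⟨y, hy, rfl⟩
    exact conj_op hg hy
  exact h ⟨x, hx, rfl⟩

theorem mem_op_of_fit [Finite G] {D : Subgroup G} {x : G} {r : ℕ} [Fact r.Prime]
    (hx : x ∈ fit D) {j : ℕ} (hj : orderOf x = r ^ j) : x ∈ op r D := by
  obtain ⟨x', hx', rfl⟩ := hx
  rw [coe_subtype, Subgroup.orderOf_coe] at hj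
  exact ⟨x', FG72.mem_pCore_of_fitting hx' hj, rfl⟩

theorem centralizer_fit_le [Finite G] {D : Subgroup G} (hD : Odd (Nat.card D)) {x : G}
    (hxD : x ∈ D) (h : ∀ f ∈ fit D, Commute f x) : x ∈ fit D := by
  haveI := Bender43.solvable_of_odd hD
  refine ⟨⟨x, hxD⟩, Fitting.centralizer_fitting_le (mem_centralizer_iff.2 fun f hf => ?_), rfl⟩
  exact Subtype.ext (h f ⟨f, hf, rfl⟩).eq

variable [Finite G] {H : Subgroup G} {b : G ⧸ H} (hc : OpenCore H b) {u : G}
  (hu : orderOf u = 2) (hub : u • base H = b)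
include hc hu hub

/-- Case B of the open core. -/
theorem OpenCore.commute_caseB
    (hB : ∀ r : ℕ, r.Prime → ∀ x ∈ op r (stab2 (base H) b), Commute u x → x = 1)
    {z z' : G} (hz : orderOf z = 2) (hzb : z • base H = base H) (hz' : orderOf z' = 2)
    (hz'b : z' • base H = base H) : Commute z z' := by
  set D := stab2 (base H) b with hD
  set F := fit D with hF
  set N := invGen H with hN
  have hFD : F ≤ D := fit_le D
  have huD : u ∈ normalizer (D : Set G) := hc.u_norm hu hub
  -- the swapper inverts `F`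
  have hfree : ∀ x ∈ F, Commute u x → x = 1 := by
    intro x hx hcm
    by_contra h1
    obtain ⟨r, hr, k, hk⟩ := exists_pow_prime h1
    haveI := Fact.mk hr
    have h2 := hB r hr _ (mem_op_of_fit (pow_mem hx k) (j := 1) (by rw [hk, pow_one]))
      (hcm.pow_right k)
    rw [h2, orderOf_one] at hk
    exact hr.one_lt.ne hk
  have huF : u ∈ normalizer (F : Set G) :=
    Bender43.Fixed.mem_normalizer_of_conj hu fun x hx => conj_fit huD hx
  set φ : MulAut F := F.normalizerMonoidHom ⟨u, huF⟩ with hφ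
  have hφ1 : MonoidHom.FixedPointFree φ := fun x hx =>
    Subtype.ext (hfree x x.2 (mul_inv_eq_iff_eq_mul.1 (congrArg Subtype.val hx : u * (x : G) * u⁻¹ = x)))
  have hφ2 : Function.Involutive φ := fun x => Subtype.ext (by
    show u * (u * (x : G) * u⁻¹) * u⁻¹ = x
    rw [show u * (u * (x : G) * u⁻¹) * u⁻¹ = u * u * x * (u * u)⁻¹ by group,
      sq_eq_one_of_inv hu]
    group)
  have hinv : ∀ x ∈ F, u * x * u⁻¹ = x⁻¹ := fun x hx =>
    congrArg Subtype.val (congrFun (hφ1.coe_eq_inv_of_involutive hφ2) ⟨x, hx⟩)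
  have hab : ∀ x ∈ F, ∀ y ∈ F, Commute x y := fun x hx y hy =>
    congrArg Subtype.val (hφ1.commute_all_of_involutive hφ2 ⟨x, hx⟩ ⟨y, hy⟩).eq
  -- inverted elements of `D` lie in `F`
  have hinF : ∀ x ∈ D, u * x * u⁻¹ = x⁻¹ → x ∈ F := by
    intro x hx hxi
    refine centralizer_fit_le hc.odd_D hx fun f hf => commute_of_sq (hc.odd_ord hx) ?_
    have h := hinv _ (conj_fit (le_normalizer hx) hf)
    rw [show u * (x * f * x⁻¹) * u⁻¹ = u * x * u⁻¹ * (u * f * u⁻¹) * (u * x * u⁻¹)⁻¹ by group,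
      hxi, hinv f hf, inv_inv, mul_inv_rev, mul_inv_rev, inv_inv] at h
    have h' : (x⁻¹ * f⁻¹ * x)⁻¹ = (x * (f⁻¹ * x⁻¹))⁻¹ := congrArg _ h
    calc f * (x * x) = x * ((x⁻¹ * f⁻¹ * x)⁻¹) * x := by group
      _ = x * ((x * (f⁻¹ * x⁻¹))⁻¹) * x := by rw [h']
      _ = x * x * f := by group
  -- exact fixed points in `F`
  have hexact : ∀ x ∈ F, x ≠ 1 → (∀ p : G ⧸ H, x • p = p → p = base H ∨ p = b) ∧
      Odd (Nat.card (centralizer ({x} : Set G))) := by
    intro x hx h1
    obtain ⟨r, hr, k, hk⟩ := exists_pow_prime h1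
    haveI := Fact.mk hr
    have hmem : x ^ k ∈ op r D := mem_op_of_fit (pow_mem hx k) (j := 1) (by rw [hk, pow_one])
    have hne : x ^ k ≠ 1 := fun h => hr.one_lt.ne (by rw [← hk, h, orderOf_one])
    obtain ⟨hex, hodd⟩ := hc.inv_exact hu hub hr (fun h => hne (mem_bot.1 (h ▸ hmem)))
      (hFD (pow_mem hx k)) hne ⟨1, by rw [pow_one, ← hk]; exact pow_orderOf_eq_one _⟩
      (hinv _ (pow_mem hx k))
    refine ⟨fun p hp => hex p (mem_stabilizer_iff.1
      (pow_mem (mem_stabilizer_iff.2 hp) k)), hodd.of_dvd_nat (Subgroup.card_dvd_of_le ?_)⟩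
    intro g hg
    exact mem_centralizer_singleton_iff.2
      ((show Commute g x from mem_centralizer_singleton_iff.1 hg).pow_right k).eq
  -- `F` corresponds to the swappers, hence is regular on the involutions of the base point
  have hmove : ∀ x : F, orderOf (u * (x : G)) = 2 ∧ (u * (x : G)) • base H = b := by
    intro x
    have hxb : (x : G) • base H = base H := mem_base hc (hFD x.2)
    refine ⟨BenderCons37.orderOf_eq_two (fun h => ?_) ?_, by rw [mul_smul, hxb, hub]⟩
    · have h1 : (u * (x : G)) • base H = b := by rw [mul_smul, hxb, hub]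
      rw [h, one_smul] at h1
      exact hc.hab h1
    · calc u * (x : G) * (u * x) = u * x * u⁻¹ * x := by rw [inv_eq_of_inv hu]; group
        _ = 1 := by rw [hinv _ x.2, inv_mul_cancel]
  have hk : Nat.card F = Nat.card (TwoFusionB.FixInv H (base H)) := by
    rw [← TwoFusionB.card_moveInv hc.se hc.hab]
    refine Nat.card_eq_of_bijective (fun x : F => (⟨u * x, hmove x⟩ : TwoFusionB.MoveInv H _ b))
      ⟨fun x y h => Subtype.ext (mul_left_cancel (congrArg Subtype.val h)), ?_⟩
    rintro ⟨v, hv, hvb⟩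
    have hd : u * v ∈ D := by
      refine mem_inf.2 ⟨?_, ?_⟩ <;> rw [mem_stabilizer_iff, mul_smul]
      · rw [hvb, smul_swap hu hub]
      · rw [smul_swap hv hvb, hub]
    refine ⟨⟨u * v, hinF _ hd ?_⟩, Subtype.ext ?_⟩
    · rw [mul_inv_rev, inv_eq_of_inv hu, inv_eq_of_inv hv, ← mul_assoc, sq_eq_one_of_inv hu,
        one_mul]
    · show u * (u * v) = v
      rw [← mul_assoc, sq_eq_one_of_inv hu, one_mul]
  have hinjI : ∀ x ∈ F, x * z * x⁻¹ = z → x = 1 := by
    intro x hx h
    by_contra h1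
    have hzx : z ∈ centralizer ({x} : Set G) :=
      mem_centralizer_singleton_iff.2 (mul_inv_eq_iff_eq_mul.1 h).symm
    exact absurd ((hexact x hx h1).2.of_dvd_nat (hz ▸ Subgroup.orderOf_dvd_natCard _ hzx))
      (by decide)
  have hreg : ∀ y : G, orderOf y = 2 → y • base H = base H →
      ∃ x ∈ F, x * z * x⁻¹ = y := by
    intro y hy hyb
    have hinj : Function.Injective (fun x : F =>
        (⟨(x : G) * z * (x : G)⁻¹, conj_inv_base (stab2_le (hFD x.2)) hz hzb⟩ :
          TwoFusionB.FixInv H (base H))) := by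
      intro x x' h
      have h' : (x : G) * z * (x : G)⁻¹ = x' * z * (x' : G)⁻¹ := congrArg Subtype.val h
      have := hinjI _ (mul_mem (inv_mem x'.2) x.2) (by
        calc (x' : G)⁻¹ * x * z * ((x' : G)⁻¹ * x)⁻¹
            = (x' : G)⁻¹ * (x * z * (x : G)⁻¹) * x' := by group
          _ = z := by rw [h']; group)
      exact Subtype.ext (inv_mul_eq_one.1 this).symm
    obtain ⟨x, hx⟩ := (hinj.bijective_of_nat_card_le hk.ge).2 ⟨y, hy, hyb⟩
    exact ⟨x, x.2, congrArg Subtype.val hx⟩
  -- an element of `F` fused to its translates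
  obtain ⟨g, hgF, hg1, hgfus⟩ : ∃ g ∈ F, g ≠ 1 ∧
      ∀ y : G, orderOf y = 2 → y • base H = base H → Fus H g (y * g) := by
    obtain ⟨z1, z2, h1, h1b, h2, h2b, hne, hcm⟩ := hc.four
    obtain ⟨x, hx, rfl⟩ := hreg z1 h1 h1b
    obtain ⟨y, hy, rfl⟩ := hreg z2 h2 h2b
    set g := x⁻¹ * y with hg
    have hgF : g ∈ F := mul_mem (inv_mem hx) hy
    have hzc : Commute z (g * z * g⁻¹) := by
      have h := hcm.map (MulAut.conj x⁻¹).toMonoidHom
      simpa [hg, mul_assoc] using h
    have hw : orderOf (z * (g * z * g⁻¹)) = 2 := by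
      refine BenderCons37.orderOf_eq_two (fun h => hne ?_) ?_
      · have h' : g * z * g⁻¹ = z := by
          rw [← inv_eq_of_mul_eq_one_right h, inv_eq_of_inv hz]
        have := hinjI g hgF h'
        rw [hg, inv_mul_eq_one] at this
        rw [this]
      · rw [hzc.symm.mul_mul_mul_comm, sq_eq_one_of_inv hz, one_mul,
          show g * z * g⁻¹ * (g * z * g⁻¹) = g * (z * z) * g⁻¹ by group, sq_eq_one_of_inv hz]
        group
    have hwb : (z * (g * z * g⁻¹)) • base H = base H := mem_stab_base.2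
      (mul_mem (mem_stab_base.1 hzb) (mem_stab_base.1
        (conj_inv_base (stab2_le (hFD hgF)) hz hzb).2))
    refine ⟨g, hgF, fun h => hne ?_, fun v hv hvb => ?_⟩
    · rw [hg, inv_mul_eq_one] at h
      rw [h]
    obtain ⟨k, hk, hkv⟩ := hreg v hv hvb
    obtain ⟨l, hl, hlw⟩ := hreg _ hw hwb
    refine ⟨k * l⁻¹ * z, mul_mem (mul_mem (stab2_le (hFD hk))
      (inv_mem (stab2_le (hFD hl)))) (mem_stab_base.1 hzb), ?_⟩
    have e : z * g * z⁻¹ = l * z * l⁻¹ * g := by
      rw [hlw, inv_eq_of_inv hz]; group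
    calc k * l⁻¹ * z * g * (k * l⁻¹ * z)⁻¹ = k * l⁻¹ * (z * g * z⁻¹) * l * k⁻¹ := by group
      _ = k * z * (l⁻¹ * (g * l)) * k⁻¹ := by rw [e]; group
      _ = k * z * g * k⁻¹ := by rw [(hab g hgF l hl).eq, inv_mul_cancel_left]
      _ = k * z * k⁻¹ * g := by
        rw [mul_assoc (k * z) g k⁻¹, (hab g hgF k⁻¹ (inv_mem hk)).eq, ← mul_assoc]
      _ = v * g := by rw [hkv]
  obtain ⟨r, hr, j, hj⟩ := exists_pow_prime hg1
  refine hc.commute_of_inf_eq_bot (hFD (pow_mem hgF j)) hr hj
    (hexact _ (pow_mem hgF j) (fun h => hr.one_lt.ne (by rw [← hj, h, orderOf_one]))).1 ?_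
    hz hzb hz' hz'b
  -- `N` meets `D` trivially
  by_contra hne
  have hDN : D ≤ normalizer ((N ⊓ D : Subgroup G) : Set G) :=
    Coprime.le_normalizer_inf (stab2_le.trans le_normalizer_invGen) le_normalizer
  set A := F ⊓ N with hA
  have hAne : A ≠ ⊥ := by
    intro hbot
    refine hne (eq_bot_iff.2 fun n hn => ?_)
    obtain ⟨hnN, hnD⟩ := mem_inf.1 hn
    have hnF : n ∈ F := centralizer_fit_le hc.odd_D hnD fun f hf => by
      have h1 : n * f * n⁻¹ * f⁻¹ ∈ A := by
        refine mem_inf.2 ⟨mul_mem (conj_fit (le_normalizer hnD) hf) (inv_mem hf), ?_⟩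
        have hfN : f ∈ normalizer (N : Set G) := le_normalizer_invGen (stab2_le (hFD hf))
        have h := (mem_normalizer_iff.1 hfN n⁻¹).1 (inv_mem hnN)
        simpa [mul_assoc] using mul_mem hnN h
      rw [hbot, mem_bot, mul_inv_eq_one, mul_inv_eq_iff_eq_mul] at h1
      exact h1.symm
    rw [← hbot]
    exact ⟨hnF, hnN⟩
  -- centralisers in `D` of elements of `A`
  have hcent : ∀ x ∈ A, x ≠ 1 → ∀ d ∈ D, Commute d x → d ∈ F := by
    intro x hx hx1 d hd hdx
    by_contra hdF
    obtain ⟨h, hh, hhd⟩ := hreg (d * z * d⁻¹) (conj_inv_base (stab2_le hd) hz hzb).1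
      (conj_inv_base (stab2_le hd) hz hzb).2
    set e := h⁻¹ * d with he
    have heD : e ∈ D := mul_mem (inv_mem (hFD hh)) hd
    have hez : Commute e z := by
      show e * z = z * e
      calc e * z = h⁻¹ * (d * z * d⁻¹) * d := by rw [he]; group
        _ = z * e := by rw [← hhd, he]; group
    have hex' : Commute e x := ((hab h hh x hx.1).inv_left).mul_left hdx
    have he1 : e ≠ 1 := fun h1 => hdF (by rw [he, inv_mul_eq_one] at h1; rwa [← h1])
    obtain ⟨s, hs, i, hi⟩ := exists_pow_prime he1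
    haveI := Fact.mk hs
    set e1 := e ^ i with he1'
    have he1D : e1 ∈ D := pow_mem heD i
    have he1ne : e1 ≠ 1 := fun h => hs.one_lt.ne (by rw [← hi, h, orderOf_one])
    -- the centraliser of `e1` leaves `H`
    obtain ⟨q, hqH, hqe⟩ : ∃ q : G, q ∉ H ∧ Commute q e1 := by
      by_cases hsk : s ∣ Nat.card F
      · have hop : op s D ≠ ⊥ := by
          obtain ⟨w, hw⟩ := exists_prime_orderOf_dvd_card' (G := F) s hsk
          intro hbot
          have hwmem : (w : G) ∈ op s D := mem_op_of_fit w.2 (j := 1)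
            (by rw [Subgroup.orderOf_coe, hw, pow_one])
          rw [hbot, mem_bot] at hwmem
          rw [← Subgroup.orderOf_coe, hwmem, orderOf_one] at hw
          exact hs.one_lt.ne hw
        have hzb' : e1 • (z • b) = z • b := by
          rw [smul_smul, (hez.pow_left i).eq, mul_smul, mem_snd hc he1D]
        obtain ⟨v, hv, hvb, hve⟩ := hc.centre s hs hop e1 he1D he1ne
          ⟨1, by rw [pow_one, ← hi]; exact pow_orderOf_eq_one _⟩
          ⟨z • b, fun h => hc.hab (smul_left_cancel z (hzb.trans h.symm)),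
            fun h => hc.hab (fix_unique hc.se hz hzb h), hzb'⟩ b (mem_snd hc he1D)
        exact ⟨v, fun h => hc.hab (fix_unique hc.se hv (mem_stab_base.2 h) hvb), hve⟩
      · classical
        haveI := Fintype.ofFinite (TwoFusionB.MoveInv H (base H) b)
        have hne1 : e1⁻¹ • base H = base H :=
          inv_smul_eq_iff.2 (mem_base hc he1D).symm
        let T : TwoFusionB.MoveInv H (base H) b → TwoFusionB.MoveInv H (base H) b := fun v =>
          ⟨e1 * v.1 * e1⁻¹, by rw [orderOf_conj_eq, v.2.1],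
            by rw [mul_smul, mul_smul, hne1, v.2.2, mem_snd hc he1D]⟩
        have hT : Function.Injective T := fun v w h => Subtype.ext
          (mul_right_cancel (mul_left_cancel
            (a := e1) (by simpa [T, mul_assoc] using congrArg Subtype.val h :
              e1 * (v.1 * e1⁻¹) = e1 * (w.1 * e1⁻¹))))
        set σ := Equiv.ofBijective T (Finite.injective_iff_bijective.1 hT) with hσ
        have hσn : ∀ (m : ℕ) (v : TwoFusionB.MoveInv H (base H) b),
            ((σ ^ m) v).1 = e1 ^ m * v.1 * (e1 ^ m)⁻¹ := by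
          intro m v
          induction m with
          | zero => simp
          | succ m ih =>
            rw [pow_succ', Equiv.Perm.mul_apply]
            show e1 * ((σ ^ m) v).1 * e1⁻¹ = _
            rw [ih, pow_succ']; group
        have hσs : σ ^ s ^ 1 = 1 := Equiv.ext fun v => Subtype.ext (by
          rw [hσn, pow_one, show e1 ^ s = 1 by rw [← hi]; exact pow_orderOf_eq_one _]
          simp)
        obtain ⟨v, hv⟩ := Equiv.Perm.exists_fixed_point_of_prime (p := s) (by
          rwa [← Nat.card_eq_fintype_card, TwoFusionB.card_moveInv hc.se hc.hab, ← hk]) hσs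
        exact ⟨v.1, hc.not_mem_H v.2.2,
          (mul_inv_eq_iff_eq_mul.1 (congrArg Subtype.val hv : e1 * v.1 * e1⁻¹ = v.1)).symm⟩
    obtain ⟨t, ht, k, hk'⟩ := exists_pow_prime hx1
    have hf1F : x ^ k ∈ F := pow_mem hx.1 k
    have hf1ne : x ^ k ≠ 1 := fun h => ht.one_lt.ne (by rw [← hk', h, orderOf_one])
    obtain ⟨hex1, hodd1⟩ := hexact _ hf1F hf1ne
    refine not_mem_of_fus hf1ne (fun y hy hyb => ?_) (pow_mem hx.2 k)
    obtain ⟨l, hl, rfl⟩ := hreg y hy hyb
    have hlH := stab2_le (hFD hl)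
    refine hc.fus_of_centralizer hu hub (e := l * e1 * l⁻¹)
      (mul_mem (mul_mem (hFD hl) he1D) (inv_mem (hFD hl))) (fun h => he1ne (by simpa using h))
      (fun hle => hqH ?_) hy hyb ((hez.pow_left i).symm.map (MulAut.conj l).toMonoidHom)
      (hFD hf1F) ht hk' ?_ hodd1 hex1
    · have hq : l * q * l⁻¹ ∈ H := hle (mem_centralizer_singleton_iff.2
        (hqe.map (MulAut.conj l).toMonoidHom).eq)
      simpa [mul_assoc] using mul_mem (mul_mem (inv_mem hlH) hq) hlH
    · have h1 : Commute (x ^ k) e1 := (hex'.symm.pow_left k).pow_right i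
      exact ((hab _ hf1F _ hl).mul_right h1).mul_right (hab _ hf1F _ (inv_mem hl))
  obtain ⟨a0, ha0, ha01⟩ := (A.bot_or_exists_ne_one).resolve_left hAne
  have hgex := (hexact g hgF hg1).1
  have hch : ∀ n : A, ∃ d ∈ D, d * g * d⁻¹ = (n : G) * g := by
    intro n
    obtain ⟨h, hh, he⟩ := fus_closure hgfus n.2.2 g ⟨1, one_mem _, by simp⟩
    refine ⟨h, mem_inf.2 ⟨mem_stabilizer_iff.2 (mem_stab_base.2 hh), mem_stabilizer_iff.2 ?_⟩, he⟩
    have hb : ((n : G) * g) • b = b := mem_snd hc (mul_mem (hFD n.2.1) (hFD hgF))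
    rw [← he, mul_smul, mul_smul] at hb
    have hfix : g • (h⁻¹ • b) = h⁻¹ • b := eq_inv_smul_iff.2 hb
    rcases hgex _ hfix with h' | h'
    · rw [inv_smul_eq_iff, mem_stab_base.2 hh] at h'
      exact absurd h'.symm hc.hab
    · exact (inv_smul_eq_iff.1 h').symm
  choose d hdD hd using hch
  have hAn : ∀ n : A, d n * a0 * (d n)⁻¹ ∈ A := fun n =>
    mem_inf.2 ⟨conj_fit (le_normalizer (hdD n)) ha0.1,
      (mem_normalizer_iff.1 (le_normalizer_invGen (stab2_le (hdD n))) a0).1 ha0.2⟩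
  have hinj : Function.Injective (fun n : A => (⟨_, hAn n⟩ : A)) := by
    intro m n h
    have h' : d m * a0 * (d m)⁻¹ = d n * a0 * (d n)⁻¹ := congrArg Subtype.val h
    have hcm : Commute ((d n)⁻¹ * d m) a0 := by
      show (d n)⁻¹ * d m * a0 = a0 * ((d n)⁻¹ * d m)
      calc (d n)⁻¹ * d m * a0 = (d n)⁻¹ * (d m * a0 * (d m)⁻¹) * d m := by group
        _ = _ := by rw [h']; group
    have hF' := hcent a0 ha0 ha01 _ (mul_mem (inv_mem (hdD n)) (hdD m)) hcm
    have e1 : d m * g * (d m)⁻¹ = d n * g * (d n)⁻¹ := by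
      calc d m * g * (d m)⁻¹ = d n * ((d n)⁻¹ * d m * g * ((d n)⁻¹ * d m)⁻¹) * (d n)⁻¹ := by group
        _ = d n * g * (d n)⁻¹ := by rw [(hab _ hF' g hgF).eq, mul_inv_cancel_right]
    rw [hd, hd] at e1
    exact Subtype.ext (mul_right_cancel e1)
  obtain ⟨n, hn⟩ := Finite.injective_iff_surjective.1 hinj 1
  have hn' : d n * a0 * (d n)⁻¹ = 1 := congrArg Subtype.val hn
  exact ha01 (by simpa using hn')

end Cfsg.Agent.BenderCore74
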