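import Cfsg.Agent.BenderCore74.CaseA
import Cfsg.Agent.BenderCore74.CaseB

/-!
The open core of Bender's theorem: the involutions of a point stabiliser commute.
-/

set_option autoImplicit false
set_option linter.style.haveILetI false

open Subgroup MulAction

namespace Cfsg.Agent.BenderCore74

/-- In the open core the involutions fixing the base point commute. -/
theorem OpenCore.commute {G : Type*} [Group G] [Finite G] {H : Subgroup G} {b : G ⧸ H}
    (hc : OpenCore H b) {z z' : G} (hz : orderOf z = 2) (hzH : z ∈ H) (hz' : orderOf z' = 2)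
    (hz'H : z' ∈ H) : Commute z z' := by
  obtain ⟨u, hu, hub⟩ := TwoFusionB.exists_moveInv hc.se hc.hab
  by_cases h : ∀ r : ℕ, r.Prime →
      ∀ x ∈ Bender43.op r (Bender43.Fixed.stab2 (base H) b), Commute u x → x = 1
  · exact hc.commute_caseB hu hub h hz (mem_stab_base.2 hzH) hz' (mem_stab_base.2 hz'H)
  · push Not at h
    obtain ⟨r, hr, e, he, hue, he1⟩ := h
    haveI := Fact.mk hr
    exact hc.commute_caseA hu hub he he1 hue hz (mem_stab_base.2 hzH) hz' (mem_stab_base.2 hz'H)

end Cfsg.Agent.BenderCore74
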