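import Cfsg.Agent.BenderCore74.Key

/-!
The open core when some element of a core of the pair stabiliser centralises the swapper.
-/

set_option autoImplicit false
set_option linter.style.haveILetI false

open Subgroup MulAction

namespace Cfsg.Agent.BenderCore74

open Cfsg.Agent.TwoFusionB (fix_unique exists_fix exists_moveInv smul_swap orderOf_conj_eq
  smul_one_eq_iff sq_eq_one_of_inv inv_eq_of_inv ne_one_of_inv)
open Cfsg.Agent.Bender43 (op op_le op_isPGroup le_normalizer_op le_op)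
open Cfsg.Agent.Bender43.Fixed (stab2)

variable {G : Type*} [Group G]

/-- The elements of exponent `r` in the centre of `P`, as a subgroup. -/
def omegaCenter (r : ℕ) (P : Subgroup G) : Subgroup G where
  carrier := {x | x ∈ P ∧ (∀ p ∈ P, Commute p x) ∧ x ^ r = 1}
  one_mem' := ⟨one_mem P, fun p _ => Commute.one_right p, one_pow r⟩
  mul_mem' := by
    rintro x y ⟨hx, hxc, hxr⟩ ⟨hy, hyc, hyr⟩
    exact ⟨mul_mem hx hy, fun p hp => (hxc p hp).mul_right (hyc p hp),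
      by rw [(hyc x hx).mul_pow, hxr, hyr, one_mul]⟩
  inv_mem' := by
    rintro x ⟨hx, hxc, hxr⟩
    exact ⟨inv_mem hx, fun p hp => (hxc p hp).inv_right, by rw [inv_pow, hxr, inv_one]⟩

theorem omegaCenter_le (r : ℕ) (P : Subgroup G) : omegaCenter r P ≤ P := fun _ h => h.1

theorem omegaCenter_comm {r : ℕ} {P : Subgroup G} {x y : G} (hx : x ∈ omegaCenter r P)
    (hy : y ∈ omegaCenter r P) : Commute x y := hy.2.1 x hx.1

theorem conj_mem_omegaCenter {r : ℕ} {P : Subgroup G} {g x : G}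
    (hg : ∀ p : G, p ∈ P ↔ g * p * g⁻¹ ∈ P) (hx : x ∈ omegaCenter r P) :
    g * x * g⁻¹ ∈ omegaCenter r P := by
  refine ⟨(hg x).1 hx.1, fun p hp => ?_, by rw [conj_pow, hx.2.2, mul_one, mul_inv_cancel]⟩
  have hq : g⁻¹ * p * g ∈ P := (hg _).2 (by simpa [mul_assoc] using hp)
  show p * (g * x * g⁻¹) = g * x * g⁻¹ * p
  calc p * (g * x * g⁻¹) = g * (g⁻¹ * p * g * x) * g⁻¹ := by group
    _ = g * (x * (g⁻¹ * p * g)) * g⁻¹ := by rw [(hx.2.1 _ hq).eq]
    _ = g * x * g⁻¹ * p := by group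

theorem normalizer_op_iff [Finite G] {r : ℕ} {D : Subgroup G} {g : G}
    (hg : g ∈ normalizer (D : Set G)) (p : G) : p ∈ op r D ↔ g * p * g⁻¹ ∈ op r D :=
  ⟨conj_op hg, fun h => by simpa [mul_assoc] using conj_op (inv_mem hg) h⟩

theorem exists_mem_omegaCenter [Finite G] {r : ℕ} [Fact r.Prime] {P N : Subgroup G}
    (hP : IsPGroup r P) (hN : P ≤ normalizer (N : Set G)) (hne : P ⊓ N ≠ ⊥) :
    omegaCenter r P ⊓ N ≠ ⊥ := by
  haveI := hP.isNilpotent
  haveI : ((P ⊓ N).subgroupOf P).Normal := normal_subgroupOf_of_le_normalizer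
    (Coprime.le_normalizer_inf le_normalizer hN)
  have h1 := Fitting.inf_center_ne_bot (N := (P ⊓ N).subgroupOf P) (fun h => hne (by
    rw [← map_subgroupOf_eq_of_le (inf_le_left : P ⊓ N ≤ P), h, Subgroup.map_bot]))
  obtain ⟨⟨x, hx⟩, hxmem, hxo⟩ := exists_prime_mem
    (hP.to_subgroup ((P ⊓ N).subgroupOf P ⊓ center P)) h1
  rw [orderOf_mk] at hxo
  intro hbot
  have hmem : x ∈ omegaCenter r P ⊓ N := ⟨⟨hx, fun p hp =>
    congrArg Subtype.val (mem_center_iff.1 hxmem.2 ⟨p, hp⟩),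
    by rw [← hxo]; exact pow_orderOf_eq_one x⟩, (mem_subgroupOf.1 hxmem.1).2⟩
  rw [hbot, mem_bot] at hmem
  rw [hmem, orderOf_one] at hxo
  exact (Fact.out : r.Prime).one_lt.ne hxo

variable [Finite G] {H : Subgroup G} {b : G ⧸ H} (hc : OpenCore H b) {u : G}
  (hu : orderOf u = 2) (hub : u • base H = b) {r : ℕ} [hr : Fact r.Prime]
include hc hu hub hr

theorem OpenCore.exists_inverted {K : Subgroup G}
    (hKW : K ≤ omegaCenter r (op r (stab2 (base H) b)))
    (hn : stab2 (base H) b ≤ normalizer (K : Set G)) (hKu : ∀ k ∈ K, u * k * u⁻¹ ∈ K)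
    (hne : K ≠ ⊥) : ∃ f ∈ K, orderOf f = r ∧ u * f * u⁻¹ = f⁻¹ := by
  obtain ⟨k, hk, hk'⟩ := hc.exists_moved hu hub
    (hKW.trans ((omegaCenter_le _ _).trans (op_le _ _))) hn hne
  refine ⟨k⁻¹ * (u * k * u⁻¹), mul_mem (inv_mem hk) (hKu k hk), ?_, ?_⟩
  · refine orderOf_eq_prime (hKW (mul_mem (inv_mem hk) (hKu k hk))).2.2 fun h => hk' ?_
    rw [inv_mul_eq_one] at h
    exact h.symm
  · calc u * (k⁻¹ * (u * k * u⁻¹)) * u⁻¹ = u * k⁻¹ * u⁻¹ * ((u * u) * k * (u * u)⁻¹) := by group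
      _ = u * k⁻¹ * u⁻¹ * k := by rw [sq_eq_one_of_inv hu]; group
      _ = (k⁻¹ * (u * k * u⁻¹))⁻¹ := by group

/-- Case A of the open core. -/
theorem OpenCore.commute_caseA {e : G} (he : e ∈ op r (stab2 (base H) b)) (he1 : e ≠ 1)
    (hue : Commute u e) {z z' : G} (hz : orderOf z = 2)
    (hzb : z • base H = base H) (hz' : orderOf z' = 2) (hz'b : z' • base H = base H) :
    Commute z z' := by
  set D := stab2 (base H) b with hD
  set P := op r D with hP
  set W := omegaCenter r P with hW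
  set N := invGen H with hN
  have hPp : IsPGroup r P := op_isPGroup r D
  have hop : op r D ≠ ⊥ := fun h => he1 (by rw [hP, h, mem_bot] at he; exact he)
  have hWD : W ≤ D := (omegaCenter_le _ _).trans (op_le _ _)
  have hrpow : ∀ x ∈ P, ∃ n : ℕ, x ^ r ^ n = 1 := fun x hx =>
    (hPp ⟨x, hx⟩).imp fun n hn => by simpa using congrArg Subtype.val hn
  have huD : u ∈ normalizer (D : Set G) := hc.u_norm hu hub
  have hWn : ∀ g ∈ normalizer (D : Set G), ∀ x ∈ W, g * x * g⁻¹ ∈ W := fun g hg x hx =>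
    conj_mem_omegaCenter (normalizer_op_iff hg) hx
  have hDnW : D ≤ normalizer (W : Set G) := Coprime.le_normalizer_of_conj_mem fun d hd x hx =>
    hWn d (le_normalizer hd) x hx
  -- the fusion of inverted elements of `W`
  obtain ⟨c, hca, hcb, huc⟩ := hc.exists_third hu hub
  have hec : e • c = c := hc.fix_third hu hub huc hue
  obtain ⟨v, hv, hvb, hve⟩ := hc.centre r Fact.out hop e (op_le _ _ he) he1 (hrpow e he)
    ⟨c, hca, hcb, hec⟩ (base H) (mem_base hc (op_le _ _ he))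
  obtain ⟨w, hw, hwb, hwe⟩ := hc.centre r Fact.out hop e (op_le _ _ he) he1 (hrpow e he)
    ⟨c, hca, hcb, hec⟩ b (mem_snd hc (op_le _ _ he))
  have hfacts : ∀ f ∈ W, orderOf f = r → u * f * u⁻¹ = f⁻¹ →
      ((∀ y : G, orderOf y = 2 → y • base H = base H → Fus H f (y * f)) ∧
        (∀ p : G ⧸ H, f • p = p → p = base H ∨ p = b)) := by
    intro f hf hfr hinv
    obtain ⟨hex, hodd⟩ := hc.inv_exact hu hub Fact.out hop (hWD hf)
      (fun h => by rw [h, orderOf_one] at hfr; exact hr.out.one_lt.ne hfr)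
      (hrpow f hf.1) hinv
    refine ⟨fun y hy hyb => ?_, hex⟩
    obtain ⟨d, hd, rfl⟩ := hc.trans v y hv hvb hy hyb
    have he' : d * e * d⁻¹ ∈ P := conj_op (le_normalizer hd) he
    refine hc.fus_of_centralizer hu hub (op_le _ _ he') (fun h => he1 ?_) (fun hle => ?_) hy hyb
      (hve.map (MulAut.conj d).toMonoidHom) (hWD hf) Fact.out hfr (hf.2.1 _ he').symm hodd hex
    · simpa using h
    · have hwH : d * w * d⁻¹ ∈ H := hle (mem_centralizer_singleton_iff.2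
        (hwe.map (MulAut.conj d).toMonoidHom).eq)
      have hdH := stab2_le hd
      have : w ∈ H := by simpa [mul_assoc] using mul_mem (mul_mem (inv_mem hdH) hwH) hdH
      exact hc.hab (fix_unique hc.se hw (mem_stab_base.2 this) hwb)
  have hnotN : ∀ f ∈ W, orderOf f = r → u * f * u⁻¹ = f⁻¹ → f ∉ N := fun f hf hfr hinv =>
    not_mem_of_fus (fun h => by rw [h, orderOf_one] at hfr; exact hr.out.one_lt.ne hfr)
      (hfacts f hf hfr hinv).1
  -- an inverted element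
  have hWne : W ≠ ⊥ := fun h => exists_mem_omegaCenter hPp (N := ⊤)
    (fun x _ => mem_normalizer_iff.2 fun y => by simp) (by rwa [inf_top_eq]) (by rw [inf_top_eq]; exact h)
  obtain ⟨f, hf, hfr, hfinv⟩ := hc.exists_inverted hu hub (le_refl W) hDnW
    (fun k hk => hWn u huD k hk) hWne
  obtain ⟨hfus, hex⟩ := hfacts f hf hfr hfinv
  refine hc.commute_of_inf_eq_bot (hWD hf) hr.out hfr hex ?_ hz hzb hz' hz'b
  -- `N` meets `D` trivially
  by_contra hne
  have hDN : D ≤ normalizer ((N ⊓ D : Subgroup G) : Set G) :=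
    Coprime.le_normalizer_inf (stab2_le.trans le_normalizer_invGen) le_normalizer
  have hPN : P ⊓ N ≠ ⊥ := by
    intro hbot
    refine hne (eq_bot_iff.2 fun n hn => ?_)
    obtain ⟨hnN, hnD⟩ := mem_inf.1 hn
    have hcomm : ∀ p ∈ P, n * p * n⁻¹ * p⁻¹ = 1 := fun p hp => by
      rw [← mem_bot, ← hbot]
      refine mem_inf.2 ⟨mul_mem (conj_op (le_normalizer hnD) hp) (inv_mem hp), ?_⟩
      have hpN : p ∈ normalizer (N : Set G) := le_normalizer_invGen (stab2_le (op_le _ _ hp))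
      have h := (mem_normalizer_iff.1 hpN n⁻¹).1 (inv_mem hnN)
      simpa [mul_assoc] using mul_mem hnN h
    -- `n * f` has order `r`
    obtain ⟨k, -, hk⟩ := fus_closure hfus hnN f ⟨1, one_mem _, by simp⟩
    have hnf : Commute n f := mul_inv_eq_iff_eq_mul.1 (mul_inv_eq_one.1 (hcomm f hf.1))
    have hnr : n ^ r = 1 := by
      have h : (n * f) ^ r = 1 := by rw [← hk, conj_pow, hf.2.2, mul_one, mul_inv_cancel]
      rwa [hnf.mul_pow, hf.2.2, mul_one] at h
    rw [← hbot]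
    refine ⟨le_op (N := (N ⊓ D)) inf_le_right hDN (fun x => ?_) hn, hnN⟩
    obtain ⟨hxN, hxD⟩ := mem_inf.1 x.2
    obtain ⟨k', -, hk'⟩ := fus_closure hfus hxN f ⟨1, one_mem _, by simp⟩
    refine ⟨1, Subtype.ext ?_⟩
    have hxc : ∀ p ∈ P, (x : G) * p * (x : G)⁻¹ * p⁻¹ = 1 := fun p hp => by
      rw [← mem_bot, ← hbot]
      refine mem_inf.2 ⟨mul_mem (conj_op (le_normalizer hxD) hp) (inv_mem hp), ?_⟩
      have hpN : p ∈ normalizer (N : Set G) := le_normalizer_invGen (stab2_le (op_le _ _ hp))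
      have h := (mem_normalizer_iff.1 hpN (x : G)⁻¹).1 (inv_mem hxN)
      simpa [mul_assoc] using mul_mem hxN h
    have hxf : Commute (x : G) f := mul_inv_eq_iff_eq_mul.1 (mul_inv_eq_one.1 (hxc f hf.1))
    have h : ((x : G) * f) ^ r = 1 := by rw [← hk', conj_pow, hf.2.2, mul_one, mul_inv_cancel]
    rw [hxf.mul_pow, hf.2.2, mul_one] at h
    simpa using h
  set W0 := W ⊓ N with hW0
  set M := N.map (MulAut.conj u).toMonoidHom with hM
  have hW0ne : W0 ≠ ⊥ := exists_mem_omegaCenter hPp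
    ((op_le _ _).trans (stab2_le.trans le_normalizer_invGen)) hPN
  have hDM : D ≤ normalizer (M : Set G) := by
    have h := (map_mono (f := (MulAut.conj u).toMonoidHom)
      ((stab2_le (b := b)).trans le_normalizer_invGen)).trans (le_normalizer_map _)
    rwa [← hD, map_conj_eq_of_mem_normalizer huD] at h
  have hmemM : ∀ x ∈ W0, u * x * u⁻¹ ∈ W ⊓ M := fun x hx =>
    ⟨hWn u huD x hx.1, ⟨x, hx.2, rfl⟩⟩
  have hback : ∀ x ∈ W ⊓ M, u * x * u⁻¹ ∈ W0 := by
    rintro x ⟨hx, y, hy, rfl⟩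
    refine ⟨hWn u huD _ hx, ?_⟩
    have e : u * (u * y * u⁻¹) * u⁻¹ = y := by
      rw [inv_eq_of_inv hu, show u * (u * y * u) * u = u * u * y * (u * u) by group,
        sq_eq_one_of_inv hu, one_mul, mul_one]
    show u * (u * y * u⁻¹) * u⁻¹ ∈ N
    rwa [e]
  have hint : W0 ⊓ (W ⊓ M) = ⊥ := by
    by_contra hne'
    obtain ⟨f0, hf0, hf0r, hf0i⟩ := hc.exists_inverted hu hub
      (K := W0 ⊓ (W ⊓ M)) (inf_le_left.trans inf_le_left)
      (Coprime.le_normalizer_inf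
        (Coprime.le_normalizer_inf hDnW (stab2_le.trans le_normalizer_invGen))
        (Coprime.le_normalizer_inf hDnW hDM))
      (fun k hk => ⟨hback k hk.2, hmemM k hk.1⟩) hne'
    exact hnotN f0 hf0.1.1 hf0r hf0i hf0.1.2
  obtain ⟨n, hn, hn1⟩ := (W0.bot_or_exists_ne_one).resolve_left hW0ne
  have hn' : u * n * u⁻¹ ∈ W ⊓ M := hmemM n hn
  have hnn' : Commute n (u * n * u⁻¹) := omegaCenter_comm hn.1 hn'.1
  have hf1 : n * (u * n * u⁻¹)⁻¹ ∈ W := mul_mem hn.1 (inv_mem hn'.1)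
  have hne1 : n * (u * n * u⁻¹)⁻¹ ≠ 1 := fun h => by
    rw [mul_inv_eq_one] at h
    exact hn1 (mem_bot.1 (hint ▸ (⟨hn, by rw [h]; exact hn'⟩ : n ∈ W0 ⊓ (W ⊓ M))))
  have hr1 : orderOf (n * (u * n * u⁻¹)⁻¹) = r := orderOf_eq_prime hf1.2.2 hne1
  have hinv1 : u * (n * (u * n * u⁻¹)⁻¹) * u⁻¹ = (n * (u * n * u⁻¹)⁻¹)⁻¹ := by
    calc u * (n * (u * n * u⁻¹)⁻¹) * u⁻¹
        = u * n * u⁻¹ * ((u * u) * n⁻¹ * (u * u)⁻¹) := by group
      _ = _ := by rw [sq_eq_one_of_inv hu]; group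
  obtain ⟨hfus1, hex1⟩ := hfacts _ hf1 hr1 hinv1
  obtain ⟨h, hhH, hh⟩ :=
    fus_closure hfus1 (inv_mem hn.2) (n * (u * n * u⁻¹)⁻¹) ⟨1, one_mem _, by simp⟩
  rw [inv_mul_cancel_left] at hh
  have hhb : h • b = b := by
    have hfix : (n * (u * n * u⁻¹)⁻¹) • (h⁻¹ • b) = h⁻¹ • b := by
      have hb : (u * n * u⁻¹)⁻¹ • b = b := mem_snd hc (inv_mem (hWD hn'.1))
      rw [← hh, mul_smul, mul_smul] at hb
      exact eq_inv_smul_iff.2 hb
    rcases hex1 _ hfix with h' | h'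
    · rw [inv_smul_eq_iff, mem_stab_base.2 hhH] at h'
      exact absurd h'.symm hc.hab
    · exact (inv_smul_eq_iff.1 h').symm
  have hhD : h ∈ D := mem_inf.2
    ⟨mem_stabilizer_iff.2 (mem_stab_base.2 hhH), mem_stabilizer_iff.2 hhb⟩
  have hfM : n * (u * n * u⁻¹)⁻¹ ∈ M := by
    refine (mem_normalizer_iff.1 (hDM hhD) _).2 ?_
    rw [hh]
    exact inv_mem hn'.2
  have hnM : n ∈ M := by
    have h' := mul_mem hfM hn'.2
    rwa [inv_mul_cancel_right] at h'
  exact hn1 (mem_bot.1 (hint ▸ (⟨hn, hn.1, hnM⟩ : n ∈ W0 ⊓ (W ⊓ M))))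

end Cfsg.Agent.BenderCore74
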