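import Cfsg.Agent.BenderCons37.Basic
import Cfsg.Agent.Bender43.Fixed
import Cfsg.Agent.Bender43.Cores
import Cfsg.Agent.ZStar.Main
import Cfsg.Agent.Lib.Frobenius.Nilpotent

/-!
The open core of Bender's theorem on strongly embedded subgroups: the hypotheses, the elements of
two point stabilisers inverted by a swapper, and the fusion lemma.
-/

set_option autoImplicit false
set_option linter.style.haveILetI false

open Subgroup MulAction

namespace Cfsg.Agent.BenderCore74

open Cfsg.Agent.TwoFusionB (fix_unique exists_fix exists_moveInv smul_swap orderOf_conj_eq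
  smul_one_eq_iff sq_eq_one_of_inv inv_eq_of_inv ne_one_of_inv)
open Cfsg.Agent.Bender43 (op op_le op_isPGroup le_normalizer_op le_op)
open Cfsg.Agent.Bender43.Fixed (stab2)

variable {G : Type*} [Group G] {H : Subgroup G}

/-- The base point. -/
abbrev base (H : Subgroup G) : G ⧸ H := ((1 : G) : G ⧸ H)

/-- The open core of Bender's theorem: the pair `(base H, b)`, its stabiliser `D` of odd order,
the absence of strongly real elements, centres in centralisers, exactness and induction. -/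
structure OpenCore (H : Subgroup G) (b : G ⧸ H) : Prop where
  se : Cfsg.IsStronglyEmbedded H
  hab : base H ≠ b
  four : ∃ z z' : G, orderOf z = 2 ∧ z • base H = base H ∧ orderOf z' = 2 ∧
    z' • base H = base H ∧ z ≠ z' ∧ Commute z z'
  trans : ∀ z z' : G, orderOf z = 2 → z • base H = base H → orderOf z' = 2 →
    z' • base H = base H → ∃ d ∈ stab2 (base H) b, d * z * d⁻¹ = z'
  real : ∀ x : G, x ≠ 1 → Odd (orderOf x) → x • base H = base H →
    (∃ p : G ⧸ H, p ≠ base H ∧ x • p = p) →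
    ∀ z : G, orderOf z = 2 → z • base H = base H → z * x * z⁻¹ ≠ x⁻¹
  centre : ∀ r : ℕ, r.Prime → op r (stab2 (base H) b) ≠ ⊥ → ∀ x ∈ stab2 (base H) b, x ≠ 1 →
    (∃ n : ℕ, x ^ r ^ n = 1) → (∃ p : G ⧸ H, p ≠ base H ∧ p ≠ b ∧ x • p = p) →
    ∀ p : G ⧸ H, x • p = p → ∃ v : G, orderOf v = 2 ∧ v • p = p ∧ Commute v x
  exact_fix : ∀ K : Subgroup G, K ≤ stab2 (base H) b →
    stab2 (base H) b ≤ normalizer (K : Set G) → K ≠ ⊥ →
    ∀ v : G, orderOf v = 2 → v • base H = b → v ∈ normalizer (K : Set G) →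
    ∀ p : G ⧸ H, (∀ k ∈ K, k • p = p) → p = base H ∨ p = b
  ind : ∀ L : Subgroup G, L ≠ ⊤ → Cfsg.IsStronglyEmbedded (H.subgroupOf L) →
    BenderCons37.RankTwo L → ∀ y y' : L, orderOf y = 2 → orderOf y' = 2 →
    y ∈ H.subgroupOf L → y' ∈ H.subgroupOf L → y * y' * (y * y') ∈ Cfsg.oddCore L

/-- The subgroup generated by the involutions fixing the base point. -/
def invGen (H : Subgroup G) : Subgroup G :=
  closure {z | orderOf z = 2 ∧ z • base H = base H}

/-- Conjugacy of `g` to `f` under `H`. -/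
def Fus (H : Subgroup G) (f g : G) : Prop := ∃ h ∈ H, h * f * h⁻¹ = g

theorem mem_stab_base {g : G} : g • base H = base H ↔ g ∈ H := smul_one_eq_iff

theorem stab2_le {b : G ⧸ H} : stab2 (base H) b ≤ H := fun _ hg => mem_stab_base.1 hg.1

theorem invGen_le : invGen H ≤ H := by
  rw [invGen, closure_le]
  exact fun z hz => mem_stab_base.1 hz.2

theorem mem_invGen {z : G} (h : orderOf z = 2) (h' : z • base H = base H) : z ∈ invGen H :=
  subset_closure ⟨h, h'⟩

theorem conj_inv_base {h z : G} (hh : h ∈ H) (hz : orderOf z = 2) (hzb : z • base H = base H) :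
    orderOf (h * z * h⁻¹) = 2 ∧ (h * z * h⁻¹) • base H = base H := by
  refine ⟨by rw [orderOf_conj_eq, hz], mem_stab_base.2 ?_⟩
  exact mul_mem (mul_mem hh (mem_stab_base.1 hzb)) (inv_mem hh)

theorem le_normalizer_invGen : H ≤ normalizer (invGen H : Set G) :=
  Bender43.le_normalizer_closure fun _ hh _ hz => conj_inv_base hh hz.1 hz.2

theorem commute_of_sq {g x : G} (hx : Odd (orderOf x)) (h : Commute g (x * x)) : Commute g x := by
  obtain ⟨m, hm⟩ := hx
  have e : (x * x) ^ (m + 1) = x := by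
    rw [← pow_two, ← pow_mul, show 2 * (m + 1) = orderOf x + 1 by omega, pow_succ,
      pow_orderOf_eq_one, one_mul]
  rw [← e]
  exact h.pow_right _

theorem exists_pow_prime [Finite G] {x : G} (hx : x ≠ 1) :
    ∃ r : ℕ, r.Prime ∧ ∃ k : ℕ, orderOf (x ^ k) = r := by
  have h1 : orderOf x ≠ 1 := fun h => hx (orderOf_eq_one_iff.1 h)
  exact ⟨(orderOf x).minFac, Nat.minFac_prime h1, orderOf x / (orderOf x).minFac,
    orderOf_pow_orderOf_div (orderOf_pos x).ne' (Nat.minFac_dvd _)⟩

theorem exists_prime_mem [Finite G] {r : ℕ} [Fact r.Prime] {K : Subgroup G} (hK : IsPGroup r K)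
    (hne : K ≠ ⊥) : ∃ x ∈ K, orderOf x = r := by
  obtain ⟨x, hx, hx1⟩ := (K.bot_or_exists_ne_one).resolve_left hne
  obtain ⟨s, hs, k, hk⟩ := exists_pow_prime hx1
  obtain ⟨n, hn⟩ := hK ⟨x ^ k, pow_mem hx k⟩
  have h : s ∣ r ^ n := hk ▸ orderOf_dvd_of_pow_eq_one (by simpa using congrArg Subtype.val hn)
  obtain rfl := (Nat.prime_dvd_prime_iff_eq hs Fact.out).1 (hs.dvd_of_dvd_pow h)
  exact ⟨x ^ k, pow_mem hx k, hk⟩

theorem map_conj_eq_of_mem_normalizer {D : Subgroup G} {g : G} (hg : g ∈ normalizer (D : Set G)) :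
    D.map (MulAut.conj g).toMonoidHom = D :=
  mem_normalizer_iff_map_conj_eq.1 hg

theorem conj_op {r : ℕ} {D : Subgroup G} {g x : G} (hg : g ∈ normalizer (D : Set G))
    (hx : x ∈ op r D) : g * x * g⁻¹ ∈ op r D := by
  have h := Bender43.op_map_le r D (MulAut.conj g).toMonoidHom ⟨x, hx, rfl⟩
  rwa [map_conj_eq_of_mem_normalizer hg] at h

/-- An element whose translates by involutions of the base point are fused to it. -/
theorem fus_closure {f : G} (h : ∀ y : G, orderOf y = 2 → y • base H = base H → Fus H f (y * f))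
    {n : G} (hn : n ∈ invGen H) : ∀ g : G, Fus H f g → Fus H f (n * g) := by
  have key : ∀ n ∈ invGen H, ∀ g : G, Fus H f g ↔ Fus H f (n * g) := by
    intro n hn
    induction hn using closure_induction with
    | mem y hy =>
      have h1 : ∀ g : G, Fus H f g → Fus H f (y * g) := by
        rintro g ⟨k, hk, rfl⟩
        obtain ⟨hy1, hy2⟩ := conj_inv_base (inv_mem hk) hy.1 hy.2
        rw [inv_inv] at hy1 hy2
        obtain ⟨l, hl, hle⟩ := h _ hy1 hy2
        refine ⟨k * l, mul_mem hk hl, ?_⟩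
        calc k * l * f * (k * l)⁻¹ = k * (l * f * l⁻¹) * k⁻¹ := by group
          _ = y * (k * f * k⁻¹) := by rw [hle]; group
      intro g
      refine ⟨h1 g, fun hg => ?_⟩
      have := h1 _ hg
      rwa [← mul_assoc, sq_eq_one_of_inv hy.1, one_mul] at this
    | one => simp
    | mul x y _ _ hx hy => exact fun g => (hy g).trans ((hx _).trans (by rw [mul_assoc]))
    | inv x _ hx => exact fun g => by simpa using (hx (x⁻¹ * g)).symm
  exact fun g hg => (key n hn g).1 hg

theorem not_mem_of_fus {f : G} (hf : f ≠ 1)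
    (h : ∀ y : G, orderOf y = 2 → y • base H = base H → Fus H f (y * f)) : f ∉ invGen H := by
  intro hf'
  obtain ⟨k, -, hk⟩ := fus_closure h (inv_mem hf') f ⟨1, one_mem _, by simp⟩
  exact hf (by simpa using hk)

variable [Finite G] {b : G ⧸ H} (hc : OpenCore H b)
include hc

theorem OpenCore.odd_D : Odd (Nat.card (stab2 (base H) b)) :=
  Bender43.Fixed.odd_stab2 hc.se hc.hab

theorem OpenCore.odd_ord {x : G} (hx : x ∈ stab2 (base H) b) : Odd (orderOf x) :=
  RankOne.odd_orderOf_of_mem hc.odd_D hx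

theorem OpenCore.not_mem_H {v : G} (hv : v • base H = b) : v ∉ H := fun h =>
  hc.hab ((mem_stab_base.2 h).symm.trans hv)

variable {u : G} (hu : orderOf u = 2) (hub : u • base H = b)
include hu hub

theorem OpenCore.u_norm : u ∈ normalizer (stab2 (base H) b : Set G) :=
  Bender43.Fixed.norm_stab2 hu hub

/-- A swapper outside the pair has a third fixed point. -/
theorem OpenCore.exists_third : ∃ c : G ⧸ H, c ≠ base H ∧ c ≠ b ∧ u • c = c := by
  obtain ⟨c, hc'⟩ := exists_fix hc.se hu
  refine ⟨c, fun e => ?_, fun e => ?_, hc'⟩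
  · rw [e] at hc'; exact hc.hab (hc'.symm.trans hub)
  · rw [e, smul_swap hu hub] at hc'; exact hc.hab hc'

theorem OpenCore.fix_third {x : G} {c : G ⧸ H} (huc : u • c = c) (h : Commute u x) :
    x • c = c :=
  fix_unique hc.se hu (by rw [smul_smul, h.eq, mul_smul, huc]) huc

/-- No non-trivial subgroup normal in `D` is centralised by the swapper. -/
theorem OpenCore.exists_moved {K : Subgroup G} (hKD : K ≤ stab2 (base H) b)
    (hn : stab2 (base H) b ≤ normalizer (K : Set G)) (hne : K ≠ ⊥) :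
    ∃ k ∈ K, u * k * u⁻¹ ≠ k := by
  by_contra hall
  push Not at hall
  obtain ⟨c, hca, hcb, huc⟩ := hc.exists_third hu hub
  have huK : u ∈ normalizer (K : Set G) :=
    Bender43.Fixed.mem_normalizer_of_conj hu fun k hk => by rw [hall k hk]; exact hk
  exact (hc.exact_fix K hKD hn hne u hu hub huK c fun k hk => hc.fix_third hu hub huc
    (mul_inv_eq_iff_eq_mul.1 (hall k hk))).elim hca hcb

/-- An element of `D` inverted by `u` commutes with no swapper. -/
theorem OpenCore.no_swap {g : G} (hg : g ∈ stab2 (base H) b) (hinv : u * g * u⁻¹ = g⁻¹)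
    {v : G} (hv : orderOf v = 2) (hvb : v • base H = b) (hcm : Commute v g) : g = 1 := by
  have hd : u * v ∈ stab2 (base H) b := by
    refine mem_inf.2 ⟨?_, ?_⟩ <;> rw [mem_stabilizer_iff, mul_smul]
    · rw [hvb, smul_swap hu hub]
    · rw [smul_swap hv hvb, hub]
  refine RankOne.eq_one_of_conj_eq_inv (hc.odd_ord hd) (hc.odd_ord hg) ?_
  calc u * v * g * (u * v)⁻¹ = u * (v * g * v⁻¹) * u⁻¹ := by group
    _ = g⁻¹ := by rw [hcm.eq, mul_inv_cancel_right, hinv]

/-- Elements of prime power order inverted by `u` fix exactly two points and have centralisers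
of odd order. -/
theorem OpenCore.inv_exact {r : ℕ} (hr : r.Prime) (hop : op r (stab2 (base H) b) ≠ ⊥) {g : G}
    (hg : g ∈ stab2 (base H) b) (hg1 : g ≠ 1) (hgr : ∃ n : ℕ, g ^ r ^ n = 1)
    (hinv : u * g * u⁻¹ = g⁻¹) :
    (∀ p : G ⧸ H, g • p = p → p = base H ∨ p = b) ∧
      Odd (Nat.card (centralizer ({g} : Set G))) := by
  have hexact : ∀ p : G ⧸ H, g • p = p → p = base H ∨ p = b := by
    by_contra hcon
    push Not at hcon
    obtain ⟨p, hp, hpa, hpb⟩ := hcon
    have h3 : ∃ p : G ⧸ H, p ≠ base H ∧ p ≠ b ∧ g • p = p := ⟨p, hpa, hpb, hp⟩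
    obtain ⟨va, hva, hvaf, hvac⟩ := hc.centre r hr hop g hg hg1 hgr h3 (base H)
      (mem_stabilizer_iff.1 (mem_inf.1 hg).1)
    obtain ⟨vb, hvb, hvbf, hvbc⟩ := hc.centre r hr hop g hg hg1 hgr h3 b
      (mem_stabilizer_iff.1 (mem_inf.1 hg).2)
    obtain ⟨w, hw, hwa, hwab⟩ :=
      TwoFusionB.exists_swap_conj hc.se hva hvb hvaf hvbf hc.hab
    have hwg : g * w * g⁻¹ = w := by
      refine TwoFusionB.swap_inj hc.se hc.hab hva hvaf (by rw [orderOf_conj_eq, hw]) ?_ hw hwa ?_
      · have h1 : g⁻¹ • base H = base H :=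
          inv_smul_eq_iff.2 (mem_stabilizer_iff.1 (mem_inf.1 hg).1).symm
        rw [mul_smul, mul_smul, h1, hwa]
        exact mem_stabilizer_iff.1 (mem_inf.1 hg).2
      · have hx : ∀ x : G, Commute x g → g * x * g⁻¹ = x := fun x hx => by
          rw [← hx.eq, mul_inv_cancel_right]
        calc g * w * g⁻¹ * va * (g * w * g⁻¹)
            = g * w * g⁻¹ * (g * va * g⁻¹) * (g * w * g⁻¹) := by rw [hx va hvac]
          _ = g * (w * va * w) * g⁻¹ := by group
          _ = vb := by rw [hwab, hx vb hvbc]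
          _ = w * va * w := hwab.symm
    exact hg1 (hc.no_swap hu hub hg hinv hw hwa (mul_inv_eq_iff_eq_mul.1 hwg).symm)
  refine ⟨hexact, Bender43.Fixed.odd_of_no_inv fun v hv hv2 => ?_⟩
  have hcm : Commute v g := mem_centralizer_singleton_iff.1 hv
  have hmv : ∀ p : G ⧸ H, g • p = p → g • (v • p) = v • p := fun p hp => by
    rw [smul_smul, ← hcm.eq, mul_smul, hp]
  rcases hexact _ (hmv _ (mem_stabilizer_iff.1 (mem_inf.1 hg).1)) with h | h
  · rcases hexact _ (hmv _ (mem_stabilizer_iff.1 (mem_inf.1 hg).2)) with h' | h'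
    · exact hc.hab (smul_left_cancel v (h.trans h'.symm))
    · exact hc.hab (fix_unique hc.se hv2 h h')
  · exact hg1 (hc.no_swap hu hub hg hinv hv2 h hcm)

end Cfsg.Agent.BenderCore74
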