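import Cfsg.Agent.BenderCore74.Basic
import Cfsg.Agent.Bender85.OddTrans

/-!
The fusion step of the open core inside the centraliser of an element of the pair stabiliser, and
the end of the proof once the generated subgroup meets the pair stabiliser trivially.
-/

set_option autoImplicit false
set_option linter.style.haveILetI false

open Subgroup MulAction

namespace Cfsg.Agent.BenderCore74

open Cfsg.Agent.TwoFusionB (fix_unique exists_fix exists_moveInv smul_swap orderOf_conj_eq
  smul_one_eq_iff sq_eq_one_of_inv inv_eq_of_inv ne_one_of_inv)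
open Cfsg.Agent.Bender43 (op op_le op_isPGroup le_normalizer_op le_op)
open Cfsg.Agent.Bender43.Fixed (stab2)

variable {G : Type*} [Group G] [Finite G] {H : Subgroup G} {b : G ⧸ H}

/-- A group without two commuting involutions: an involution is central modulo an odd normal
subgroup. -/
theorem oddComm_of_not_rankTwo {L : Type*} [Group L] [Finite L] (h : ¬ BenderCons37.RankTwo L)
    {y : L} (hy : orderOf y = 2) : ZStar.OddComm y := by
  intro g
  have hv : orderOf (g * y * g⁻¹) = 2 := by rw [orderOf_conj_eq, hy]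
  rw [inv_eq_of_inv hy, show y * g * y * g⁻¹ = y * (g * y * g⁻¹) by group]
  by_contra hcon
  rw [Nat.not_odd_iff_even] at hcon
  have hz := Involution.orderOf_pow_half hcon (orderOf_pos _).ne'
  have e1 := BenderCons37.no_four_of_not_rankTwo h hz hy
    (Involution.commute_pow_half_left (sq_eq_one_of_inv hy) (sq_eq_one_of_inv hv) hcon)
  have e2 := BenderCons37.no_four_of_not_rankTwo h hz hv
    (Involution.commute_pow_half_right (sq_eq_one_of_inv hy) (sq_eq_one_of_inv hv) hcon)
  have e3 : g * y * g⁻¹ = y := e2.symm.trans e1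
  rw [e3, sq_eq_one_of_inv hy, orderOf_one] at hcon
  exact absurd hcon (by decide)

/-- An element with centraliser of odd order is fused to its translates by the involutions of the
base point in a centraliser in which these commute. -/
theorem fus_of_commuting {L : Subgroup G} {f : G} (hfL : f ∈ L) (hfb : f • base H = base H)
    (hodd : Odd (Nat.card (centralizer ({f} : Set G))))
    (hcommI : ∀ v v' : G, v ∈ L → v' ∈ L → orderOf v = 2 → orderOf v' = 2 → v • base H = base H →
      v' • base H = base H → Commute v v')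
    {y : G} (hy : orderOf y = 2) (hyL : y ∈ L) (hyb : y • base H = base H) :
    Fus H f (y * f) := by
  set E : Set G := {v | v ∈ L ∧ v • base H = base H ∧ v * v = 1} with hE
  have hEmul : ∀ v ∈ E, ∀ v' ∈ E, v * v' ∈ E := by
    rintro v ⟨hvL, hvb, hvv⟩ v' ⟨hv'L, hv'b, hv'v⟩
    refine ⟨mul_mem hvL hv'L, by rw [mul_smul, hv'b, hvb], ?_⟩
    by_cases h1 : v = 1
    · rw [h1, one_mul, hv'v]
    by_cases h1' : v' = 1
    · rw [h1', mul_one, hvv]
    have hcm := hcommI v v' hvL hv'L (BenderCons37.orderOf_eq_two h1 hvv)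
      (BenderCons37.orderOf_eq_two h1' hv'v) hvb hv'b
    rw [hcm.symm.mul_mul_mul_comm, hvv, hv'v, one_mul]
  have hfb' : f⁻¹ • base H = base H := inv_smul_eq_iff.2 (hfb).symm
  have hmap : ∀ v : E, f * v.1 * f⁻¹ * v.1 ∈ E := fun v =>
    hEmul _ ⟨mul_mem (mul_mem hfL v.2.1) (inv_mem hfL),
      by rw [mul_smul, mul_smul, hfb', v.2.2.1, hfb],
      by rw [show f * v.1 * f⁻¹ * (f * v.1 * f⁻¹) = f * (v.1 * v.1) * f⁻¹ by group, v.2.2.2,
        mul_one, mul_inv_cancel]⟩ _ v.2
  have hinj : Function.Injective (fun v : E => (⟨_, hmap v⟩ : E)) := by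
    rintro ⟨v, hv⟩ ⟨v', hv'⟩ heq
    have heq' : f * v * f⁻¹ * v = f * v' * f⁻¹ * v' := congrArg Subtype.val heq
    have hm := hEmul v hv v' hv'
    have hfx : f * (v * v') * f⁻¹ = v * v' := by
      have hcm : v * v' = v' * v :=
        calc v * v' = (v * v')⁻¹ := eq_inv_of_mul_eq_one_left hm.2.2
          _ = v' * v := by
            rw [mul_inv_rev, inv_eq_of_mul_eq_one_right hv.2.2,
              inv_eq_of_mul_eq_one_right hv'.2.2]
      calc f * (v * v') * f⁻¹
          = f * (v' * v) * f⁻¹ := by rw [hcm]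
        _ = f * v' * f⁻¹ * (f * v * f⁻¹ * v) * v⁻¹ := by group
        _ = f * v' * f⁻¹ * (f * v' * f⁻¹ * v') * v⁻¹ := by rw [heq']
        _ = f * (v' * v') * f⁻¹ * v' * v⁻¹ := by group
        _ = v' * v⁻¹ := by rw [hv'.2.2]; group
        _ = v * v' := by rw [inv_eq_of_mul_eq_one_right hv.2.2, hcm]
    have h1 : v * v' = 1 := by
      refine orderOf_eq_one_iff.1 (Nat.eq_one_of_dvd_coprimes
        (Nat.coprime_two_right.2 hodd) (Subgroup.orderOf_dvd_natCard _ ?_)
        (orderOf_dvd_of_pow_eq_one (by rw [pow_two, hm.2.2])))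
      exact mem_centralizer_singleton_iff.2 (mul_inv_eq_iff_eq_mul.1 hfx).symm
    exact Subtype.ext
      ((eq_inv_of_mul_eq_one_left h1).trans (inv_eq_of_mul_eq_one_right hv'.2.2))
  obtain ⟨⟨v, hv⟩, hvy⟩ :=
    Finite.injective_iff_surjective.1 hinj ⟨y, hyL, hyb, sq_eq_one_of_inv hy⟩
  have hvy' : f * v * f⁻¹ * v = y := congrArg Subtype.val hvy
  refine ⟨v, mem_stab_base.1 hv.2.1, ?_⟩
  rw [inv_eq_of_mul_eq_one_right hv.2.2]
  by_cases hv1 : v = 1
  · rw [hv1] at hvy' ⊢
    exact absurd (hvy'.symm.trans (by group)) (ne_one_of_inv hy)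
  have hw1 : orderOf (f * v * f⁻¹) = 2 := by
    rw [orderOf_conj_eq, BenderCons37.orderOf_eq_two hv1 hv.2.2]
  have hcm : Commute v (f * v * f⁻¹) :=
    hcommI _ _ hv.1 (mul_mem (mul_mem hfL hv.1) (inv_mem hfL))
      (BenderCons37.orderOf_eq_two hv1 hv.2.2) hw1 hv.2.1
      (by rw [mul_smul, mul_smul, hfb', hv.2.1, hfb])
  calc v * f * v = v * (f * v * f⁻¹) * f := by group
    _ = y * f := by rw [hcm.eq, hvy']

/-- An element of odd prime order with exactly two fixed points, one of them the centre of an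
involution in the same centraliser, gives that centraliser rank two. -/
theorem rankTwo_of_exact (hse : Cfsg.IsStronglyEmbedded H) {L : Subgroup G} {p q : G ⧸ H}
    (hpq : p ≠ q) {y f : G} (hy : orderOf y = 2) (hyL : y ∈ L) (hyp : y • p = p) (hfL : f ∈ L)
    {r : ℕ} (hr : r.Prime) (hr2 : r ≠ 2) (hfr : orderOf f = r)
    (hfp : f • p = p) (hfq : f • q = q) (hex : ∀ z : G ⧸ H, f • z = z → z = p ∨ z = q) :
    BenderCons37.RankTwo L := by
  by_contra h2
  have hyo : orderOf (⟨y, hyL⟩ : L) = 2 := by rw [orderOf_mk, hy]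
  obtain ⟨O, hOn, hOodd, hO⟩ := ZStar.zStar hyo (oddComm_of_not_rankTwo h2 hyo)
  haveI := hOn
  refine Bender85.OddTrans.not_exact_pair (X := G ⧸ H) O hOodd hpq (y := ⟨y, hyL⟩)
    (f := (⟨f, hfL⟩ : L)) (Subtype.ext (sq_eq_one_of_inv hy)) (fun z => ?_) hr hr2
    (Subtype.ext (by rw [← hfr]; exact pow_orderOf_eq_one f)) ?_ (hO ⟨f, hfL⟩)
  · exact ⟨fun h => fix_unique hse hy h hyp, fun h => h ▸ hyp⟩
  · ext z
    refine ⟨fun h => hex z h, ?_⟩
    rintro (h | h)
    · exact h ▸ hfp
    · exact h ▸ hfq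

/-- If the subgroup generated by the involutions of the base point meets `D` trivially, these
involutions commute. -/
theorem commute_of_trivial_inf (hab : base H ≠ b)
    (htrans : ∀ z z' : G, orderOf z = 2 → z • base H = base H → orderOf z' = 2 →
      z' • base H = base H → ∃ d ∈ stab2 (base H) b, d * z * d⁻¹ = z') {f : G} (hf : f ∈ stab2 (base H) b) {r : ℕ} (hr : r.Prime)
    (hfr : orderOf f = r) (hex : ∀ p : G ⧸ H, f • p = p → p = base H ∨ p = b)
    (hND : invGen H ⊓ stab2 (base H) b = ⊥) {z z' : G} (hz : orderOf z = 2)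
    (hzb : z • base H = base H) (hz' : orderOf z' = 2) (hz'b : z' • base H = base H) :
    Commute z z' := by
  set N := invGen H with hN
  have hfN : f ∈ normalizer (N : Set G) := le_normalizer_invGen (stab2_le hf)
  set φ : MulAut N := N.normalizerMonoidHom ⟨f, hfN⟩ with hφ
  have hnil : Group.IsNilpotent N := by
    refine Frobenius.isNilpotent_of_fixedPointFree N φ (fun n hn => ?_) hr ?_
    · have h1 : f * (n : G) * f⁻¹ = n := congrArg Subtype.val hn
      have hfn : f * (n : G) = (n : G) * f := mul_inv_eq_iff_eq_mul.1 h1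
      have hnb : f • ((n : G) • b) = (n : G) • b := by
        rw [smul_smul, hfn, mul_smul, (mem_stabilizer_iff.1 (mem_inf.1 hf).2)]
      have hna : (n : G) • base H = base H := mem_stab_base.2 (invGen_le n.2)
      rcases hex _ hnb with h | h
      · exact absurd (smul_left_cancel (n : G) (hna.trans h.symm)) hab
      · refine Subtype.ext (mem_bot.1 (hND ▸ (⟨n.2, ?_⟩ :
          (n : G) ∈ N ⊓ stab2 (base H) b)))
        exact mem_inf.2 ⟨mem_stabilizer_iff.2 hna, mem_stabilizer_iff.2 h⟩
    · rw [hφ, ← map_pow, show (⟨f, hfN⟩ : normalizer (N : Set G)) ^ r = 1 from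
        Subtype.ext (by rw [← hfr]; exact pow_orderOf_eq_one f), map_one]
  haveI : Fact (Nat.Prime 2) := ⟨Nat.prime_two⟩
  haveI := hnil
  obtain ⟨S⟩ := (inferInstance : Nonempty (Sylow 2 N))
  haveI hSn : (S : Subgroup N).Normal :=
    Sylow.normal_of_normalizerCondition Group.normalizerCondition_of_isNilpotent S
  have hmem : ∀ v : N, orderOf v = 2 → v ∈ (S : Subgroup N) := by
    intro v hv
    obtain ⟨T, hT⟩ := (IsPGroup.of_card (n := 1) (by rw [Nat.card_zpowers, hv, pow_one]) :
      IsPGroup 2 (zpowers v)).exists_le_sylow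
    obtain ⟨g, hg⟩ := MulAction.exists_smul_eq N S T
    have hST : T = S := by rw [← hg, Sylow.smul_eq_of_normal]
    exact hST ▸ hT (mem_zpowers v)
  have htop : N ≤ (S : Subgroup N).map N.subtype := by
    exact (closure_le _).2 fun v hv =>
      ⟨⟨v, mem_invGen hv.1 hv.2⟩, hmem _ (by rw [orderOf_mk]; exact hv.1), rfl⟩
  have h2 : IsPGroup 2 N := (S.isPGroup'.map N.subtype).to_le htop
  haveI : Nontrivial N := ⟨⟨⟨z, mem_invGen hz hzb⟩, 1, fun h =>
    ne_one_of_inv hz (congrArg Subtype.val h)⟩⟩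
  haveI := h2.center_nontrivial
  obtain ⟨w, hw⟩ := exists_prime_orderOf_dvd_card' (G := center N) 2 (by
    obtain ⟨k, hk, hk'⟩ := ((h2.to_subgroup (center N)).nontrivial_iff_card).1 inferInstance
    rw [hk']
    exact dvd_pow_self 2 hk.ne')
  have hw2 : orderOf ((w : N) : G) = 2 := by rw [Subgroup.orderOf_coe, Subgroup.orderOf_coe, hw]
  have hwb : ((w : N) : G) • base H = base H := mem_stab_base.2 (invGen_le (w : N).2)
  obtain ⟨d, hd, rfl⟩ := htrans _ z hw2 hwb hz hzb
  have hz'N : d⁻¹ * z' * d ∈ N :=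
    (mem_normalizer_iff''.1 (le_normalizer_invGen (stab2_le hd)) z').1 (mem_invGen hz' hz'b)
  have hcm : ((w : N) : G) * (d⁻¹ * z' * d) = d⁻¹ * z' * d * ((w : N) : G) :=
    congrArg Subtype.val ((mem_center_iff.1 w.2) ⟨_, hz'N⟩).symm
  show d * _ * d⁻¹ * z' = z' * (d * _ * d⁻¹)
  calc d * ((w : N) : G) * d⁻¹ * z' = d * (((w : N) : G) * (d⁻¹ * z' * d)) * d⁻¹ := by group
    _ = _ := by rw [hcm]; group

variable (hc : OpenCore H b) {u : G} (hu : orderOf u = 2) (hub : u • base H = b)
include hc hu hub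

omit hu hub in
theorem mem_base {g : G} (hg : g ∈ stab2 (base H) b) : g • base H = base H :=
  mem_stabilizer_iff.1 (mem_inf.1 hg).1

omit hu hub in
theorem mem_snd {g : G} (hg : g ∈ stab2 (base H) b) : g • b = b :=
  mem_stabilizer_iff.1 (mem_inf.1 hg).2

theorem OpenCore.centralizer_ne_top {e : G} (he : e ∈ stab2 (base H) b) (he1 : e ≠ 1) :
    centralizer ({e} : Set G) ≠ ⊤ := by
  intro htop
  have hcen : ∀ g : G, Commute g e := fun g =>
    mem_centralizer_singleton_iff.1 (htop ▸ mem_top g)
  obtain ⟨k, hk, hk'⟩ := hc.exists_moved hu hub (zpowers_le.2 he)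
    (Coprime.le_normalizer_of_conj_mem fun d _ x hx => by
      obtain ⟨i, rfl⟩ := mem_zpowers_iff.1 hx
      rw [((hcen d).zpow_right i).eq, mul_inv_cancel_right]
      exact zpow_mem (mem_zpowers e) i)
    (fun h => he1 (zpowers_eq_bot.1 h))
  obtain ⟨i, rfl⟩ := mem_zpowers_iff.1 hk
  exact hk' (by rw [((hcen u).zpow_right i).eq, mul_inv_cancel_right])

/-- In the centraliser of `e` the translate of `f` by an involution of the base point is fused
to `f`. -/
theorem OpenCore.fus_of_centralizer {e : G} (he : e ∈ stab2 (base H) b) (he1 : e ≠ 1)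
    (hle : ¬ centralizer ({e} : Set G) ≤ H) {y : G} (hy : orderOf y = 2)
    (hyb : y • base H = base H) (hye : Commute y e) {f : G} (hf : f ∈ stab2 (base H) b)
    {r : ℕ} (hr : r.Prime) (hfr : orderOf f = r) (hfe : Commute f e)
    (hodd : Odd (Nat.card (centralizer ({f} : Set G))))
    (hex : ∀ p : G ⧸ H, f • p = p → p = base H ∨ p = b) : Fus H f (y * f) := by
  set L := centralizer ({e} : Set G) with hL
  have hyL : y ∈ L := mem_centralizer_singleton_iff.2 hye.eq
  have hfL : f ∈ L := mem_centralizer_singleton_iff.2 hfe.eq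
  have hyH : y ∈ H := mem_stab_base.1 hyb
  have hse := BenderCons37.stronglyEmbedded_subgroupOf hc.se hle hyL hyH hy
  by_cases h2 : BenderCons37.RankTwo L
  · -- the involutions of `L` at the base point commute
    obtain ⟨g, hgL, hgH⟩ := SetLike.not_le_iff_exists.1 hle
    have hOle := BenderCons37.oddCore_le hse h2
    have hcommI : ∀ v v' : G, v ∈ L → v' ∈ L → orderOf v = 2 → orderOf v' = 2 →
        v • base H = base H → v' • base H = base H → Commute v v' := by
      intro v v' hvL hv'L hv hv' hvb hv'b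
      set x := v * v' with hx
      have hmem := hc.ind L (hc.centralizer_ne_top hu hub he he1) hse h2 ⟨v, hvL⟩ ⟨v', hv'L⟩
        (by rw [orderOf_mk, hv]) (by rw [orderOf_mk, hv']) (mem_subgroupOf.2 (mem_stab_base.1 hvb))
        (mem_subgroupOf.2 (mem_stab_base.1 hv'b))
      have hw : Odd (orderOf (x * x)) := by
        have h := BenderCons37.oddCore_card_odd.of_dvd_nat
          (Subgroup.orderOf_dvd_natCard _ hmem)
        rw [← Subgroup.orderOf_coe] at h
        exact h
      have hinv : v * (x * x) * v⁻¹ = (x * x)⁻¹ := by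
        rw [hx, inv_eq_of_inv hv, mul_inv_rev, mul_inv_rev, inv_eq_of_inv hv, inv_eq_of_inv hv',
          show v * (v * v' * (v * v')) * v = v * v * (v' * v * (v' * v)) by group,
          sq_eq_one_of_inv hv, one_mul]
      have hxx : x * x = 1 := by
        by_contra hne
        refine hc.real _ hne hw (mem_stab_base.2 ?_) ⟨(g : G ⧸ H), ?_, ?_⟩ v hv hvb hinv
        · exact mem_subgroupOf.1 (hOle hmem)
        · intro h
          exact hgH (by simpa using QuotientGroup.eq.1 h)
        · refine TwoFusionB.smul_mk_eq_iff.2 ?_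
          have h := mem_subgroupOf.1 (hOle
            ((inferInstance : (Cfsg.oddCore L).Normal).conj_mem _ hmem ⟨g⁻¹, inv_mem hgL⟩))
          simpa using h
      show v * v' = v' * v
      calc v * v' = x⁻¹ := eq_inv_of_mul_eq_one_left hxx
        _ = v' * v := by rw [hx, mul_inv_rev, inv_eq_of_inv hv, inv_eq_of_inv hv']
    exact fus_of_commuting hfL (mem_base hc hf) hodd hcommI hy hyL hyb
  · -- rank one is impossible
    refine absurd (rankTwo_of_exact hc.se hc.hab hy hyL hyb hfL hr (fun e' => ?_) hfr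
      (mem_base hc hf) (mem_snd hc hf) hex) h2
    have := hc.odd_ord hf
    rw [hfr, e'] at this
    exact absurd this (by decide)

omit hu hub in
/-- The conclusion once `N` meets `D` trivially, in the open core. -/
theorem OpenCore.commute_of_inf_eq_bot {f : G} (hf : f ∈ stab2 (base H) b) {r : ℕ} (hr : r.Prime)
    (hfr : orderOf f = r) (hex : ∀ p : G ⧸ H, f • p = p → p = base H ∨ p = b)
    (hND : invGen H ⊓ stab2 (base H) b = ⊥) {z z' : G} (hz : orderOf z = 2)
    (hzb : z • base H = base H) (hz' : orderOf z' = 2) (hz'b : z' • base H = base H) :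
    Commute z z' :=
  commute_of_trivial_inf hc.hab hc.trans hf hr hfr hex hND hz hzb hz' hz'b

end Cfsg.Agent.BenderCore74
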